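import Groth.Agent.Conormal.Maps
import Groth.Agent.RegIdeal.Seq
import Groth.Agent.KoszulLib.H1Quasi
import Groth.Agent.W7Strat.Frame
import Groth.Agent.PBundle.FrameTools
import Groth.Agent.CycPB.RelBundle
import Groth.Agent.KoszulLib.Basic
import Groth.Agent.KoszBlow.Ring

/-!
# Frames of conormal sheaves from quasi-regular generators
-/

set_option autoImplicit false
set_option linter.style.haveILetI false
set_option backward.isDefEq.respectTransparency false
set_option backward.isDefEq.respectTransparency.types false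
universe u

open CategoryTheory CategoryTheory.Limits AlgebraicGeometry TopologicalSpace Opposite
open Groth.Agent.QC (res resO res_res res_smul resO_resO app_res)

noncomputable section

namespace Groth.Agent.BlowExcBundle

open Wiebe (Acyclic)

variable {X Y : Scheme.{u}}

theorem isGen_of_isFrame {M : X.Modules} {U : X.Opens} {e : Γ(M, U)}
    (he : TMul.IsFrame fun _ : Fin 1 => e) : TMul.IsGen e := fun V hV => by
  have h : Function.Bijective fun c : Fin 1 → Γ(X, V) => ∑ i, c i • res M hV e :=
    ⟨he.comb_injective hV, he.comb_surjective hV⟩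
  have h2 := h.comp (Equiv.funUnique (Fin 1) Γ(X, V)).symm.bijective
  simpa [Function.comp_def] using h2

theorem quasiRegular_of_acyclic {A : Type u} [CommRing A] {m : ℕ} {a : Fin m → A} (ha : Acyclic a) :
    CAlgX.IsQuasiRegular a :=
  KoszulLib.isQuasiRegular_of_h1 (KoszulLib.isH1Regular_of_acyclic ha)

theorem quasiRegular_single {A : Type u} [CommRing A] {d : A} (hd : d ∈ nonZeroDivisors A) :
    CAlgX.IsQuasiRegular fun _ : Fin 1 => d := by
  refine KoszulLib.isQuasiRegular_of_h1 fun c hc => ?_
  have h0 : c = 0 := funext fun k => by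
    rw [Fin.sum_univ_one] at hc
    rw [Fin.eq_zero k]
    exact (mem_nonZeroDivisors_iff_right.1 hd) _ hc
  rw [h0]
  exact zero_mem _

variable (i : Y ⟶ X) [IsClosedImmersion i]

/-- quasi-regular generators give a frame of the conormal sheaf -/
theorem exists_conormal_frame (U : X.affineOpens) {m : ℕ} (a : Fin m → Γ(X, U.1))
    (hI : i.ker.ideal U = Ideal.span (Set.range a)) (hq : CAlgX.IsQuasiRegular a) :
    ∃ s : Fin m → Γ(ClSub.idealMod i.ker, U.1), (∀ l, OmegaSh.idealSect i.ker U.1 (s l) = a l) ∧
      TMul.IsFrame fun l => OmegaSh.conormalSect i U.1 (s l) := by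
  classical
  have hch : Conormal.IsChart i U.1 := ⟨U.2, inferInstance⟩
  have hker : RingHom.ker (i.app U.1).hom = Ideal.span (Set.range a) :=
    (Scheme.Hom.ker_apply i U).symm.trans hI
  choose s hs using fun l => Conormal.exists_idealSect i U.1 (a l)
    (RingHom.mem_ker.1 (hker.ge (Ideal.subset_span ⟨l, rfl⟩)))
  refine ⟨s, hs, PBundle.isFrame_of_bijective (Conormal.isQCoh_conormal i) hch.preimage ⟨fun b b' hbb => ?_, fun x => ?_⟩⟩
  · choose w hw using fun l => hch.surjective (b l - b' l)
    have h0 : OmegaSh.conormalSect i U.1 (∑ l, w l • s l) = 0 := by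
      rw [map_sum]
      simp only [Conormal.conormalSect_smul, hw, sub_smul, Finset.sum_sub_distrib]
      exact sub_eq_zero.2 hbb
    rw [Conormal.conormalSect_eq_zero_iff i hch, hker, map_sum] at h0
    simp only [Conormal.idealSect_smul, hs] at h0
    funext l
    have hl := RingHom.mem_ker.1 (hker.ge (RegIdeal.coeff_mem_of_sum_eq_zero hq w h0 l))
    exact sub_eq_zero.1 ((hw l).symm.trans hl)
  · obtain ⟨v, rfl⟩ := Conormal.conormalSect_surjective i hch x
    obtain ⟨w, hw⟩ := (Submodule.mem_span_range_iff_exists_fun Γ(X, U.1)).1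
      (hker.le (RingHom.mem_ker.2 (Conormal.app_idealSect i U.1 v)))
    refine ⟨fun l => i.app U.1 (w l), ?_⟩
    have hv : v = ∑ l, w l • s l := Conormal.idealSect_injective i.ker U.1 (by
      rw [map_sum]
      simp only [Conormal.idealSect_smul, hs]
      exact hw.symm)
    rw [hv, map_sum]
    simp only [Conormal.conormalSect_smul]

/-- the number of acyclic generators is the rank of the conormal sheaf -/
theorem exists_data {r : ℕ} (hC : FlatMod.IsFinLocFreeOfRank r (Omega.conormal i))
    (hloc : ∀ x : X, ∃ (U : X.affineOpens) (m : ℕ) (a : Fin m → Γ(X, U.1)), x ∈ U.1 ∧ Acyclic a ∧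
      i.ker.ideal U = Ideal.span (Set.range a)) (y : Y) :
    ∃ (U : X.affineOpens) (a : Fin r → Γ(X, U.1)), i y ∈ U.1 ∧ Acyclic a ∧
      i.ker.ideal U = Ideal.span (Set.range a) := by
  obtain ⟨U, m, a, hyU, ha, hI⟩ := hloc (i y)
  obtain ⟨s, -, hs⟩ := exists_conormal_frame i U a hI (quasiRegular_of_acyclic ha)
  obtain ⟨V, hV, hyV, ⟨b⟩⟩ := CycPB.exists_basis hC y
  have hb : TMul.IsFrame fun l => b l := by
    refine PBundle.isFrame_of_bijective (Conormal.isQCoh_conormal i) hV ?_
    have h := b.equivFun.symm.bijective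
    have he : ⇑b.equivFun.symm = fun a : Fin r → Γ(Y, V) => ∑ l, a l • b l :=
      funext fun a => b.equivFun_symm_apply a
    rwa [he] at h
  obtain rfl : m = r := W7Strat.frame_card_unique hs hb (show y ∈ i ⁻¹ᵁ U.1 from hyU) hyV
  exact ⟨U, a, hyU, ha, hI⟩

end Groth.Agent.BlowExcBundle
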