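import Groth.Agent.BlowExcBundle.Ring
import Groth.Agent.BlowExcBundle.Frame
import Groth.Agent.BlowCech.Chart
import Groth.Agent.PBundle.Euler
import Groth.Agent.CycPB.ProjExist
import Groth.Agent.ThickSys.Sys
import Groth.Agent.FpqcDescent.IdealGlue

/-!
# The exceptional divisor is the projective bundle of the conormal sheaf
-/

set_option autoImplicit false
set_option linter.style.haveILetI false
set_option maxSynthPendingDepth 4
set_option linter.unusedSectionVars false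
set_option backward.isDefEq.respectTransparency false
set_option backward.isDefEq.respectTransparency.types false
universe u

open CategoryTheory CategoryTheory.Limits AlgebraicGeometry TopologicalSpace Opposite
open Groth.Agent.QC (res resO res_res res_smul resO_resO app_res)

noncomputable section

namespace Groth.Agent.BlowExcBundle

open Wiebe (Acyclic)
open BlowCech (Charts rho)
open PBundle (sec')

/-! ### generalities -/

section Gen

variable {T P : Scheme.{u}} {O : P.Modules} {L : T.Modules} (θ : T ⟶ P)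
  (e : (Scheme.Modules.pullback θ).obj O ≅ L)

theorem le_pre {S : Scheme.{u}} {π : P ⟶ S} {g : T ⟶ S} (hθ : θ ≫ π = g) (V : S.Opens) :
    g ⁻¹ᵁ V ≤ θ ⁻¹ᵁ (π ⁻¹ᵁ V) := by
  subst hθ
  exact le_rfl

theorem isFrame_of_isGen {M : T.Modules} {U : T.Opens} {x : Γ(M, U)} (hx : TMul.IsGen x) :
    TMul.IsFrame fun _ : Fin 1 => x := by
  refine W7Strat.isFrame_of_bijective fun V hV => ?_
  have h := (hx V hV).comp (Equiv.funUnique (Fin 1) Γ(T, V)).bijective
  simpa [Function.comp_def] using h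

/-- transfer of sections -/
def psi {W : P.Opens} (x : Γ(O, W)) : Γ(L, θ ⁻¹ᵁ W) := e.hom.app _ (OmegaSh.pullSect θ O W x)

theorem psi_res {W V : P.Opens} (h : V ≤ W) (x : Γ(O, W)) :
    psi θ e (res O h x) = res L (θ.preimage_mono h) (psi θ e x) := by
  rw [psi, psi, PBundle.pullSect_res, ← app_res]

theorem psi_smul {W : P.Opens} (c : Γ(P, W)) (x : Γ(O, W)) : psi θ e (c • x) = θ.app W c • psi θ e x := by
  rw [psi, psi, PBundle.pullSect_smul, Scheme.Modules.Hom.app_smul]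

theorem isGen_psi {W : P.Opens} {x : Γ(O, W)} (hx : TMul.IsGen x) : TMul.IsGen (psi θ e x) := by
  haveI := (inferInstance : Nonempty Unit)
  have h1 : TMul.IsFrame fun _ : Fin 1 => x := by
    refine W7Strat.isFrame_of_bijective fun V hV => ?_
    have h := (hx V hV).comp (Equiv.funUnique (Fin 1) Γ(P, V)).bijective
    simpa [Function.comp_def] using h
  exact isGen_of_isFrame (W7Strat.isFrame_app e (h1.pullback θ))

theorem isUnit_coeff {M : T.Modules} {U V : T.Opens} {x : Γ(M, U)} {y : Γ(M, V)} (hx : TMul.IsGen x) (hy : TMul.IsGen y)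
    {W : T.Opens} (hU : W ≤ U) (hV : W ≤ V) {c : Γ(T, W)} (h : c • res M hU x = res M hV y) : IsUnit c := by
  obtain ⟨w, hw⟩ := (hy W hV).2 (res M hU x)
  have h1 : w * c = 1 := (hx W hU).1 (by
    show (w * c) • res M hU x = (1 : Γ(T, W)) • res M hU x
    rw [one_smul, mul_smul, h]
    exact hw)
  exact IsUnit.of_mul_eq_one_right _ h1

end Gen

theorem isIso_of_affine_appTop {X Y : Scheme.{u}} [IsAffine X] [IsAffine Y] (f : X ⟶ Y) [IsIso f.appTop] : IsIso f := by
  have h := Scheme.isoSpec_hom_naturality f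
  haveI : IsIso (f ≫ Y.isoSpec.hom) := by rw [← h]; infer_instance
  exact IsIso.of_isIso_comp_right f Y.isoSpec.hom

section OfIso

variable {X P P' : Scheme.{u}} {π : P ⟶ X} {π' : P' ⟶ X} {E : X.Modules} {O : P.Modules} {O' : P'.Modules}
  {q : (Scheme.Modules.pullback π).obj E ⟶ O}

/-- transport of a projective bundle along an isomorphism -/
theorem isProjBundle_of_iso (hP : KRR.IsProjBundle π E O q) (q' : (Scheme.Modules.pullback π').obj E ⟶ O')
    [Epi q'] (hO' : FlatMod.IsFinLocFreeOfRank 1 O') (θ : P' ⟶ P) [IsIso θ] (hθ : θ ≫ π = π')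
    (e : (Scheme.Modules.pullback θ).obj O ≅ O') (he : PBundle.bc q θ hθ e.hom = q') :
    KRR.IsProjBundle π' E O' q' where
  invertible := hO'
  epi := inferInstance
  univ T g L hL s hs := by
    haveI := hs
    obtain ⟨h, hg, e₁, he₁⟩ := PBundle.exists_hom hP g hL s
    let k := h ≫ inv θ
    have hk : k ≫ θ = h := by simp [k]
    have hkg : k ≫ π' = g := by rw [← hθ, ← Category.assoc, hk, hg]
    obtain ⟨e₂, he₂⟩ : ∃ e₂ : (Scheme.Modules.pullback (k ≫ θ)).obj O ≅ L,
        PBundle.bc q (k ≫ θ) (by rw [hk, hg]) e₂.hom = s := by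
      clear_value k
      subst hk
      exact ⟨e₁, he₁⟩
    refine ⟨k, ⟨hkg, (Scheme.Modules.pullback k).mapIso e.symm ≪≫ (Scheme.Modules.pullbackComp k θ).app O ≪≫ e₂, ?_⟩, ?_⟩
    · show PBundle.bc q' k hkg _ = s
      rw [← he, PBundle.bc_comp' q θ hθ k hkg]
      refine Eq.trans ?_ he₂
      congr 1
      simp
    · rintro k' ⟨hk', f, hf⟩
      have hw : (k' ≫ θ) ≫ π = g := by rw [Category.assoc, hθ, hk']
      have heq : k' ≫ θ = h := by
        refine PBundle.hom_unique hP hL s hw hg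
          (((Scheme.Modules.pullbackComp k' θ).app O).symm ≪≫ (Scheme.Modules.pullback k').mapIso e ≪≫ f) e₁ ?_ he₁
        refine Eq.trans ?_ hf
        show _ = PBundle.bc q' k' hk' f.hom
        rw [← he, PBundle.bc_comp' q θ hθ k' hk']
        rfl
      simp [k, ← heq]

end OfIso

/-! ### the exceptional divisor -/

variable {X Y X' Y' : Scheme.{u}} {i : Y ⟶ X} [IsClosedImmersion i] {f : X' ⟶ X} {j : Y' ⟶ X'}
  [IsClosedImmersion j] {g : Y' ⟶ Y} (hsq : IsPullback j g f i)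
  {φ : (Scheme.Modules.pullback g).obj (Omega.conormal i) ⟶ Omega.conormal j} (hφ : OmegaSh.IsConormalMap j i f g φ)
  {U : X.affineOpens} {r : ℕ} {a : Fin (r + 1) → Γ(X, U.1)}

include hsq in
theorem preimage_eq (W : X.Opens) : j ⁻¹ᵁ (f ⁻¹ᵁ W) = g ⁻¹ᵁ (i ⁻¹ᵁ W) := by
  rw [← Scheme.Hom.comp_preimage, hsq.w, Scheme.Hom.comp_preimage]

variable (C : Charts f U a)

/-- the coordinates `a l / a k` -/
def cf (k l : Fin (r + 1)) : Γ(X', C.D k) :=
  (Ideal.mem_span_singleton'.1 ((C.gen k).le (Ideal.mem_map_of_mem _ (Ideal.subset_span ⟨l, rfl⟩)))).choose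

theorem cf_spec (k l : Fin (r + 1)) :
    cf C k l * rho f (C.D k) (C.le k) (a k) = rho f (C.D k) (C.le k) (a l) :=
  (Ideal.mem_span_singleton'.1 ((C.gen k).le (Ideal.mem_map_of_mem _ (Ideal.subset_span ⟨l, rfl⟩)))).choose_spec

theorem cf_self (k : Fin (r + 1)) : cf C k k = 1 :=
  (mul_cancel_right_mem_nonZeroDivisors (C.nzd k _ (C.le k) (C.gen k))).1 ((cf_spec C k k).trans (one_mul _).symm)

include hsq in
theorem le_g (k : Fin (r + 1)) : j ⁻¹ᵁ C.D k ≤ g ⁻¹ᵁ (i ⁻¹ᵁ U.1) :=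
  (j.preimage_mono (C.le k)).trans (preimage_eq hsq U.1).le

include hsq in
theorem ker_ideal (hI : i.ker.ideal U = Ideal.span (Set.range a)) (k : Fin (r + 1)) :
    j.ker.ideal ⟨C.D k, C.affine k⟩ = Ideal.span {rho f (C.D k) (C.le k) (a k)} := by
  rw [ThickSys.ker_of_isPullback hsq, FpqcDescent.ideal_comap_appLE i.ker f U ⟨C.D k, C.affine k⟩ (C.le k), hI]
  exact C.gen k

include hsq in
theorem isGen_class (hI : i.ker.ideal U = Ideal.span (Set.range a)) (k : Fin (r + 1)) :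
    ∃ s : Γ(ClSub.idealMod j.ker, C.D k), OmegaSh.idealSect j.ker (C.D k) s = rho f (C.D k) (C.le k) (a k) ∧
      TMul.IsGen (OmegaSh.conormalSect j (C.D k) s) := by
  obtain ⟨s, hs, hfr⟩ := exists_conormal_frame j ⟨C.D k, C.affine k⟩ (fun _ : Fin 1 => rho f (C.D k) (C.le k) (a k))
    (by rw [ker_ideal hsq C hI k, Set.range_const]) (quasiRegular_single (C.nzd k _ (C.le k) (C.gen k)))
  refine ⟨s 0, hs 0, isGen_of_isFrame ?_⟩
  have he : (fun _ : Fin 1 => OmegaSh.conormalSect j (C.D k) (s 0)) = fun l => OmegaSh.conormalSect j (C.D k) (s l) :=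
    funext fun l => by rw [Fin.eq_zero l]
  rw [he]
  exact hfr

variable (hI : i.ker.ideal U = Ideal.span (Set.range a)) (s : Fin (r + 1) → Γ(ClSub.idealMod i.ker, U.1))
  (hs : ∀ l, OmegaSh.idealSect i.ker U.1 (s l) = a l)

/-- the classes of the generators -/
abbrev tv (l : Fin (r + 1)) : Γ(Omega.conormal i, i ⁻¹ᵁ U.1) := OmegaSh.conormalSect i U.1 (s l)

/-- their images upstairs -/
def sig (k l : Fin (r + 1)) : Γ(Omega.conormal j, j ⁻¹ᵁ C.D k) :=
  res (Omega.conormal j) (le_g hsq C k) (sec' g φ (i ⁻¹ᵁ U.1) (tv s l))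

include hsq hφ hI hs in
theorem sig_spec (k : Fin (r + 1)) :
    TMul.IsGen (sig hsq (φ := φ) C s k k) ∧
      ∀ l, sig hsq (φ := φ) C s k l = j.app (C.D k) (cf C k l) • sig hsq (φ := φ) C s k k := by
  obtain ⟨sj, hsj, hgen⟩ := isGen_class hsq C hI k
  have hl : ∀ l, sig hsq (φ := φ) C s k l = j.app (C.D k) (cf C k l) • OmegaSh.conormalSect j (C.D k) sj := fun l => by
    have h := Conormal.IsConormalMap.app_class j i f g hφ U.1 (C.D k) (C.le k) (le_g hsq C k) (s l) (cf C k l • sj)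
      (by rw [Conormal.idealSect_smul, hsj, hs]; exact cf_spec C k l)
    rw [Conormal.conormalSect_smul, ModDesc.pullSectLE_apply, ← app_res] at h
    exact h
  have hk : sig hsq (φ := φ) C s k k = OmegaSh.conormalSect j (C.D k) sj := by rw [hl, cf_self, map_one, one_smul]
  refine ⟨hk ▸ hgen, fun l => ?_⟩
  rw [hl, hk]

section Cover

variable (hdata : ∀ y : Y, ∃ (U : X.affineOpens) (a : Fin (r + 1) → Γ(X, U.1)), i y ∈ U.1 ∧ Acyclic a ∧
  i.ker.ideal U = Ideal.span (Set.range a)) (hb : BlowUp.IsBlowUp f i.ker)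

include hsq hb hdata in
theorem exists_chart_at (z : Y') :
    ∃ (U : X.affineOpens) (a : Fin (r + 1) → Γ(X, U.1)) (_ : Acyclic a) (_ : i.ker.ideal U = Ideal.span (Set.range a))
      (C : Charts f U a) (k : Fin (r + 1)) (s : Fin (r + 1) → Γ(ClSub.idealMod i.ker, U.1))
      (_ : ∀ l, OmegaSh.idealSect i.ker U.1 (s l) = a l), z ∈ j ⁻¹ᵁ C.D k := by
  obtain ⟨U, a, hyU, ha, hI⟩ := hdata (g z)
  obtain ⟨C⟩ := BlowCech.exists_charts i.ker hb U a hI
  obtain ⟨s, hs, -⟩ := exists_conormal_frame i U a hI (quasiRegular_of_acyclic ha)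
  have hz : z ∈ j ⁻¹ᵁ (f ⁻¹ᵁ U.1) := by rw [preimage_eq hsq]; exact hyU
  obtain ⟨k, hk⟩ := Opens.mem_iSup.1 (C.cover hz)
  exact ⟨U, a, ha, hI, C, k, s, hs, hk⟩

include hsq hb hdata in
theorem isFinLocFreeOfRank_conormal : FlatMod.IsFinLocFreeOfRank 1 (Omega.conormal j) :=
  W7Strat.isFinLocFreeOfRank_of_frames fun z => by
    obtain ⟨U, a, ha, hI, C, k, s, hs, hk⟩ := exists_chart_at hsq hdata hb z
    obtain ⟨sj, -, hg⟩ := isGen_class hsq C hI k
    exact ⟨_, _, hk, isFrame_of_isGen hg⟩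

include hsq hφ hb hdata in
theorem epi_conormalMap : Epi φ := Conormal.epi_of_local φ fun O t z hz => by
  obtain ⟨U, a, ha, hI, C, k, s, hs, hk⟩ := exists_chart_at hsq hdata hb z
  obtain ⟨hg, -⟩ := sig_spec hsq hφ C hI s hs k
  obtain ⟨c, hc⟩ := (hg (O ⊓ j ⁻¹ᵁ C.D k) inf_le_right).2 (res _ inf_le_left t)
  refine ⟨O ⊓ j ⁻¹ᵁ C.D k, inf_le_left, c • res _ (inf_le_right.trans (le_g hsq C k))
    (OmegaSh.pullSect g (Omega.conormal i) (i ⁻¹ᵁ U.1) (tv s k)), ⟨hz, hk⟩, ?_⟩
  rw [Scheme.Modules.Hom.app_smul, ← app_res, ← hc]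
  simp only [sig, sec', res_res]

end Cover

/-! ### comparison with the projective bundle -/

variable {P : Scheme.{u}} {π : P ⟶ Y} {O : P.Modules} {q : (Scheme.Modules.pullback π).obj (Omega.conormal i) ⟶ O}
  (hP : KRR.IsProjBundle π (Omega.conormal i) O q) {θ : Y' ⟶ P} (hθ : θ ≫ π = g)
  (e : (Scheme.Modules.pullback θ).obj O ≅ Omega.conormal j) (he : PBundle.bc q θ hθ e.hom = φ)

include he in
theorem sec_eq (V : Y.Opens) (t : Γ(Omega.conormal i, V)) :
    sec' g φ V t = res (Omega.conormal j) (le_pre θ hθ V)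
      (psi θ e (sec' π q V t)) := by
  conv_lhs => rw [← he]
  exact PBundle.sec'_bc' q θ hθ e.hom V t

include hsq he in
/-- the generators of the two charts -/
theorem psi_gk (k l : Fin (r + 1)) {V : Y'.Opens} (h1 : V ≤ j ⁻¹ᵁ C.D l)
    (h2 : V ≤ θ ⁻¹ᵁ (PBundle.W q (tv s) k)) :
    res (Omega.conormal j) h2 (psi θ e (PBundle.gk q (tv s) k)) =
      res (Omega.conormal j) h1 (sig hsq (φ := φ) C s l k) := by
  rw [sig, sec_eq hθ e he, PBundle.gk, psi_res]
  simp only [res_res]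

include hsq hφ hI hs hP he in
theorem preimage_W (ht : TMul.IsFrame (tv s)) (k : Fin (r + 1)) : θ ⁻¹ᵁ (PBundle.W q (tv s) k) = j ⁻¹ᵁ C.D k := by
  refine le_antisymm (fun z hz => ?_) fun z hz => ?_
  · have hzU : z ∈ j ⁻¹ᵁ (f ⁻¹ᵁ U.1) := by
      rw [preimage_eq hsq]
      have h := PBundle.W_le q (tv s) k hz
      have key : ∀ g' : Y' ⟶ Y, θ ≫ π = g' → z ∈ g' ⁻¹ᵁ (i ⁻¹ᵁ U.1) := by
        rintro _ rfl
        exact h
      exact key g hθ
    obtain ⟨l, hl⟩ := Opens.mem_iSup.1 (C.cover hzU)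
    obtain ⟨hgl, hsp⟩ := sig_spec hsq hφ C hI s hs l
    let V := j ⁻¹ᵁ C.D l ⊓ θ ⁻¹ᵁ (PBundle.W q (tv s) k)
    have h := psi_gk hsq C s hθ e he k l (V := V) inf_le_left inf_le_right
    rw [hsp k, res_smul] at h
    have hu := isUnit_coeff hgl (isGen_psi θ e (PBundle.isGen_gk q (tv s) k))
      (inf_le_left : V ≤ _) (inf_le_right : V ≤ _) h.symm
    -- so `z` lies where `a k` generates
    have hzb : j z ∈ X'.basicOpen (cf C l k) := by
      have h1 : z ∈ Y'.basicOpen (resO Y' (inf_le_left : V ≤ _) (j.app (C.D l) (cf C l k))) := by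
        refine (Scheme.mem_basicOpen Y' _ z (show z ∈ V from ⟨hl, hz⟩)).2 ?_
        exact hu.map _
      rw [resO, Scheme.basicOpen_res] at h1
      have h2 := h1.2
      rw [← Scheme.preimage_basicOpen] at h2
      exact h2
    refine C.le_of_gen k (X'.basicOpen (cf C l k)) ((X'.basicOpen_le _).trans (C.le l)) ?_ hzb
    have hunit : IsUnit (X'.presheaf.map (homOfLE (X'.basicOpen_le (cf C l k))).op (cf C l k)) :=
      RingedSpace.isUnit_res_basicOpen _ _
    have hρ : rho f (X'.basicOpen (cf C l k)) ((X'.basicOpen_le _).trans (C.le l)) =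
        (X'.presheaf.map (homOfLE (X'.basicOpen_le (cf C l k))).op).hom.comp (rho f (C.D l) (C.le l)) :=
      RingHom.ext fun x => (BlowCech.rho_res f _ _ _ x).symm
    rw [hρ, ← Ideal.map_map, C.gen l, Ideal.map_span, Set.image_singleton, RingHom.comp_apply,
      ← cf_spec C l k, map_mul, Ideal.span_singleton_mul_left_unit hunit]
  · obtain ⟨hgk, -⟩ := sig_spec hsq hφ C hI s hs k
    have hzπ : θ z ∈ π ⁻¹ᵁ (i ⁻¹ᵁ U.1) := by
      exact le_pre θ hθ _ (le_g hsq C k hz)
    obtain ⟨l, V', hV', hzV', hg'⟩ := PBundle.exists_mem_W hP ht hzπ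
    have hzl : θ z ∈ PBundle.W q (tv s) l := PBundle.le_W q (tv s) l hV' hg' hzV'
    let V := j ⁻¹ᵁ C.D k ⊓ θ ⁻¹ᵁ (PBundle.W q (tv s) l)
    have h := congrArg (fun x => res (Omega.conormal j) (inf_le_right : V ≤ _) (psi θ e x))
      (PBundle.co_smul q (tv s) l k)
    simp only [psi_smul, psi_res, res_smul, res_res] at h
    have h' : res (Omega.conormal j) (inf_le_left : V ≤ _) (sig hsq (φ := φ) C s k k) =
        resO Y' (inf_le_right : V ≤ _) (θ.app _ (PBundle.co q (tv s) l k)) •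
          res (Omega.conormal j) (inf_le_right : V ≤ _) (psi θ e (PBundle.gk q (tv s) l)) := by
      rw [h, sig, sec_eq hθ e he, res_res, res_res]
    have hu := isUnit_coeff (isGen_psi θ e (PBundle.isGen_gk q (tv s) l)) hgk
      (inf_le_right : V ≤ _) (inf_le_left : V ≤ _) h'.symm
    have hzb : θ z ∈ P.basicOpen (PBundle.co q (tv s) l k) := by
      have h1 : z ∈ Y'.basicOpen (resO Y' (inf_le_right : V ≤ _) (θ.app _ (PBundle.co q (tv s) l k))) := by
        refine (Scheme.mem_basicOpen Y' _ z (show z ∈ V from ⟨hz, hzl⟩)).2 ?_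
        exact hu.map _
      rw [resO, Scheme.basicOpen_res] at h1
      have h2 := h1.2
      rw [← Scheme.preimage_basicOpen] at h2
      exact h2
    refine PBundle.le_W q (tv s) k _ (PBundle.isGen_of_coeff (PBundle.isGen_gk q (tv s) l) le_rfl (PBundle.W_le q (tv s) l)
      (σ := sec' π q (i ⁻¹ᵁ U.1) (tv s k)) (c := PBundle.co q (tv s) l k) ?_) hzb
    rw [QC.res_self]
    exact PBundle.co_smul q (tv s) l k

include hsq hφ C hI hs hP he in
theorem isIso_restrict (ha : Acyclic a) (ht : TMul.IsFrame (tv s)) (k : Fin (r + 1)) :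
    IsIso (θ ∣_ PBundle.W q (tv s) k) := by
  have hch : Conormal.IsChart i U.1 := ⟨U.2, inferInstance⟩
  have hchj : Conormal.IsChart j (C.D k) := ⟨C.affine k, inferInstance⟩
  have hW := preimage_W hsq hφ C hI s hs hP hθ e he ht k
  obtain ⟨hWaff, hev⟩ := PBundle.chart (k := k) hP hch.preimage ht
  obtain ⟨hgk, hsp⟩ := sig_spec hsq hφ C hI s hs k
  have hchart := bijective_chart a k (rho f (C.D k) (C.le k)) (cf C k) ha (cf_spec C k)
    (C.nzd k _ (C.le k) (C.gen k)) (C.form k) (C.ker k) (i.app U.1).hom hch.surjective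
    ((Scheme.Hom.ker_apply i U).symm.trans hI) (j.app (C.D k)).hom hchj.surjective
    ((Scheme.Hom.ker_apply j ⟨C.D k, C.affine k⟩).symm.trans (ker_ideal hsq C hI k))
    (g.appLE (i ⁻¹ᵁ U.1) (j ⁻¹ᵁ C.D k) (le_g hsq C k)).hom (by
      rw [← CommRingCat.hom_comp, Scheme.Hom.app_eq_appLE, Scheme.Hom.appLE_comp_appLE]
      show _ = (j.app (C.D k)).hom.comp (f.appLE U.1 (C.D k) (C.le k)).hom
      rw [← CommRingCat.hom_comp, Scheme.Hom.app_eq_appLE, Scheme.Hom.appLE_comp_appLE]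
      congr 2
      exact hsq.w.symm)
  let Φ := (θ.appLE (PBundle.W q (tv s) k) (j ⁻¹ᵁ C.D k) hW.ge).hom
  have hcomp : Φ.comp (PBundle.ev q (tv s) k) = MvPolynomial.eval₂Hom
      (g.appLE (i ⁻¹ᵁ U.1) (j ⁻¹ᵁ C.D k) (le_g hsq C k)).hom fun l => j.app (C.D k) (cf C k (k.succAbove l)) := by
    refine MvPolynomial.ringHom_ext (fun x => ?_) fun l => ?_
    · simp only [RingHom.comp_apply, PBundle.ev, MvPolynomial.eval₂Hom_C, Φ]
      rw [← CommRingCat.comp_apply, Scheme.Hom.appLE_comp_appLE]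
      subst hθ
      rfl
    · simp only [RingHom.comp_apply, PBundle.ev, MvPolynomial.eval₂Hom_X', Φ]
      refine (hgk _ le_rfl).1 ?_
      simp only [QC.res_self]
      rw [← hsp]
      have h := congrArg (fun x => res (Omega.conormal j) hW.ge (psi θ e x))
        (PBundle.co_smul q (tv s) k (k.succAbove l))
      simp only [psi_smul, psi_res, res_smul, res_res] at h
      have h2 := psi_gk hsq C s hθ e he k k (V := j ⁻¹ᵁ C.D k) le_rfl hW.ge
      rw [QC.res_self] at h2
      rw [h2] at h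
      refine h.trans ?_
      rw [sig, sec_eq hθ e he, res_res]
  have hΦ : Function.Bijective Φ := by
    refine (Function.Bijective.of_comp_iff _ hev).1 ?_
    show Function.Bijective (Φ.comp (PBundle.ev q (tv s) k))
    rw [hcomp]
    exact hchart
  haveI : IsAffine (PBundle.W q (tv s) k).toScheme := hWaff
  haveI : IsAffine (θ ⁻¹ᵁ PBundle.W q (tv s) k).toScheme := by
    have h : IsAffineOpen (θ ⁻¹ᵁ PBundle.W q (tv s) k) := hW ▸ hchj.preimage
    exact h
  haveI : IsIso (θ.app (PBundle.W q (tv s) k)) := by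
    refine (ConcreteCategory.isIso_iff_bijective _).2 ?_
    have key : ∀ (V : Y'.Opens) (h : V ≤ θ ⁻¹ᵁ PBundle.W q (tv s) k), V = θ ⁻¹ᵁ PBundle.W q (tv s) k →
        Function.Bijective (θ.appLE _ V h) → Function.Bijective (θ.app (PBundle.W q (tv s) k)) := by
      rintro V h rfl hb
      rwa [Scheme.Hom.app_eq_appLE]
    exact key _ _ hW.symm hΦ
  haveI : IsIso (θ ∣_ PBundle.W q (tv s) k).appTop := by
    haveI : IsIso (θ.app ((PBundle.W q (tv s) k).ι ''ᵁ ⊤)) := by
      rw [Scheme.Opens.ι_image_top]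
      infer_instance
    rw [morphismRestrict_appTop]
    infer_instance
  exact isIso_of_affine_appTop _

end Groth.Agent.BlowExcBundle

namespace Groth.Agent.BlowExcBundle

open Wiebe (Acyclic)

variable {X Y X' Y' : Scheme.{u}} {i : Y ⟶ X} [IsClosedImmersion i] {f : X' ⟶ X} {j : Y' ⟶ X'}
  [IsClosedImmersion j] {g : Y' ⟶ Y}

/-- **the exceptional divisor of a regular blow-up is the projective bundle of the conormal sheaf** -/
theorem isProjBundle_exceptional (hsq : IsPullback j g f i) (hb : BlowUp.IsBlowUp f i.ker) {r : ℕ}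
    (hC : FlatMod.IsFinLocFreeOfRank (r + 1) (Omega.conormal i))
    (hloc : ∀ x : X, ∃ (U : X.affineOpens) (m : ℕ) (a : Fin m → Γ(X, U.1)), x ∈ U.1 ∧ Acyclic a ∧
      i.ker.ideal U = Ideal.span (Set.range a))
    {φ : (Scheme.Modules.pullback g).obj (Omega.conormal i) ⟶ Omega.conormal j} (hφ : OmegaSh.IsConormalMap j i f g φ) :
    KRR.IsProjBundle g (Omega.conormal i) (Omega.conormal j) φ := by
  have hdata := exists_data i hC hloc
  have hrk := isFinLocFreeOfRank_conormal hsq hdata hb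
  haveI := epi_conormalMap hsq hφ hdata hb
  obtain ⟨P, π, O, q, hP, -, -⟩ := CycPB.exists_projBundle hC
  obtain ⟨θ, hθ, e, he⟩ := PBundle.exists_hom hP g hrk φ
  haveI : IsIso θ := by
    have key : ∀ p : P, ∃ W : P.Opens, p ∈ W ∧ IsIso (θ ∣_ W) := fun p => by
      obtain ⟨U, a, hyU, ha, hI⟩ := hdata (π p)
      obtain ⟨C⟩ := BlowCech.exists_charts i.ker hb U a hI
      obtain ⟨s, hs, ht⟩ := exists_conormal_frame i U a hI (quasiRegular_of_acyclic ha)
      obtain ⟨k, V, hV, hpV, hg⟩ := PBundle.exists_mem_W hP ht (show p ∈ π ⁻¹ᵁ (i ⁻¹ᵁ U.1) from hyU)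
      exact ⟨_, PBundle.le_W q (tv s) k hV hg hpV, isIso_restrict hsq hφ C hI s hs hP hθ e he ha ht k⟩
    choose W hpW hW using key
    exact (IsZariskiLocalAtTarget.iff_of_iSup_eq_top (P := MorphismProperty.isomorphisms Scheme.{u}) W
      (eq_top_iff.2 fun p _ => Opens.mem_iSup.2 ⟨p, hpW p⟩)).2 hW
  exact isProjBundle_of_iso hP φ hrk θ hθ e he

end Groth.Agent.BlowExcBundle
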