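import Groth.Agent.KoszBlow.Ring
import Mathlib

/-!
# The chart of the exceptional divisor is a polynomial ring over the centre
-/

set_option autoImplicit false
set_option linter.style.haveILetI false
universe u

open MvPolynomial

namespace Groth.Agent.BlowExcBundle

open Wiebe (Acyclic)

variable {A D : Type u} [CommRing A] [CommRing D] {r : ℕ}

/-- the permutation moving `k` to the front -/
def front (k : Fin (r + 1)) : Fin (r + 1) ≃ Fin (r + 1) := (finSuccEquiv' 0).trans (finSuccEquiv' k).symm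

theorem front_zero (k : Fin (r + 1)) : front k 0 = k := by simp [front]

theorem front_succ (k : Fin (r + 1)) (i : Fin r) : front k i.succ = k.succAbove i := by
  have h : (finSuccEquiv' (0 : Fin (r + 1))) i.succ = some i := finSuccEquiv'_succAbove 0 i
  rw [front, Equiv.trans_apply, h, finSuccEquiv'_symm_some]

variable (a : Fin (r + 1) → A) (k : Fin (r + 1)) (ρ : A →+* D) (c : Fin (r + 1) → D)

theorem exists_poly_of_mem_pow (hc : ∀ l, c l * ρ (a k) = ρ (a l)) : ∀ (d : ℕ) {x : A},
    x ∈ Ideal.span (Set.range a) ^ d →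
      ∃ p : MvPolynomial (Fin r) A, eval₂Hom ρ (fun i => c (k.succAbove i)) p * ρ (a k) ^ d = ρ x := by
  intro d
  induction d with
  | zero => exact fun {x} _ => ⟨C x, by simp⟩
  | succ d ih =>
    intro x hx
    rw [pow_succ] at hx
    induction hx using Submodule.mul_induction_on' with
    | mem_mul_mem y hy z hz =>
      obtain ⟨p, hp⟩ := ih hy
      obtain ⟨w, rfl⟩ := (Submodule.mem_span_range_iff_exists_fun A).1 hz
      refine ⟨p * (C (w k) + ∑ i : Fin r, C (w (k.succAbove i)) * X i), ?_⟩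
      have hsum : ρ (∑ l, w l • a l) = (ρ (w k) + ∑ i : Fin r, ρ (w (k.succAbove i)) * c (k.succAbove i)) * ρ (a k) := by
        rw [map_sum, Fin.sum_univ_succAbove _ k, add_mul, Finset.sum_mul]
        congr 1
        · rw [smul_eq_mul, map_mul]
        · exact Finset.sum_congr rfl fun i _ => by rw [smul_eq_mul, map_mul, mul_assoc, hc]
      rw [map_mul, map_add, map_sum, eval₂Hom_C, map_mul, hsum, ← hp, pow_succ]
      simp only [map_mul, eval₂Hom_C, eval₂Hom_X']
      ring
    | add y _ z _ hy hz =>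
      obtain ⟨p, hp⟩ := hy
      obtain ⟨q, hq⟩ := hz
      exact ⟨p + q, by rw [map_add, add_mul, hp, hq, map_add]⟩

/-- the chart of the exceptional divisor -/
theorem bijective_chart (ha : Acyclic a) (hc : ∀ l, c l * ρ (a k) = ρ (a l)) (hnzd : ρ (a k) ∈ nonZeroDivisors D)
    (hform : ∀ v : D, ∃ d : ℕ, ∃ x ∈ Ideal.span (Set.range a) ^ d, v * ρ (a k) ^ d = ρ x)
    (hker : ∀ x : A, ρ x = 0 → ∃ s : ℕ, a k ^ s * x = 0)
    {B D' : Type u} [CommRing B] [CommRing D'] (π : A →+* B) (hπ : Function.Surjective π)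
    (hπk : RingHom.ker π = Ideal.span (Set.range a))
    (σ : D →+* D') (hσ : Function.Surjective σ) (hσk : RingHom.ker σ = Ideal.span {ρ (a k)})
    (ψ : B →+* D') (hψ : ψ.comp π = σ.comp ρ) :
    Function.Bijective (eval₂Hom ψ fun i : Fin r => σ (c (k.succAbove i))) := by
  set e := eval₂Hom ρ fun i : Fin r => c (k.succAbove i)
  have hcomm : (eval₂Hom ψ fun i : Fin r => σ (c (k.succAbove i))).comp (MvPolynomial.map π) = σ.comp e := by
    refine MvPolynomial.ringHom_ext (fun x => ?_) (fun i => ?_)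
    · simp only [RingHom.comp_apply, MvPolynomial.map_C, eval₂Hom_C, e]
      exact RingHom.congr_fun hψ x
    · simp [e]
  have hsurj : Function.Surjective e := fun v => by
    obtain ⟨d, x, hx, hv⟩ := hform v
    obtain ⟨p, hp⟩ := exists_poly_of_mem_pow a k ρ c hc d hx
    exact ⟨p, (mul_cancel_right_mem_nonZeroDivisors (pow_mem hnzd d)).1 (hp.trans hv.symm)⟩
  refine ⟨(injective_iff_map_eq_zero _).2 fun q hq => ?_, fun v => ?_⟩
  swap
  · obtain ⟨v, rfl⟩ := hσ v
    obtain ⟨p, rfl⟩ := hsurj v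
    exact ⟨MvPolynomial.map π p, RingHom.congr_fun hcomm p⟩
  obtain ⟨p, rfl⟩ := MvPolynomial.map_surjective π hπ q
  have hp : e p ∈ RingHom.ker σ := (RingHom.congr_fun hcomm p).symm.trans hq
  rw [hσk, Ideal.mem_span_singleton'] at hp
  obtain ⟨v, hv⟩ := hp
  obtain ⟨w, rfl⟩ := hsurj v
  -- the relation
  have h0 : e (p - C (a k) * w) = 0 := by
    rw [map_sub, map_mul, ← hv, show e (C (a k)) = ρ (a k) from eval₂Hom_C _ _ _, mul_comm, sub_self]
  let a' : Fin (r + 1) → A := a ∘ front k
  have ha' : Acyclic a' := KoszulLib.acyclic_comp_equiv _ ha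
  have ha0 : a' 0 = a k := by simp [a', front_zero]
  let T := Localization.Away (a' 0)
  let T' := Localization.Away (ρ (a k))
  have hu : IsUnit (((algebraMap D T').comp ρ) (a' 0)) := by
    rw [ha0, RingHom.comp_apply]
    exact IsLocalization.Away.algebraMap_isUnit (ρ (a k))
  let χ : T →+* T' := IsLocalization.Away.lift (S := T) (a' 0) hu
  have hχ : ∀ x, χ (algebraMap A T x) = algebraMap D T' (ρ x) := fun x =>
    IsLocalization.Away.lift_eq (a' 0) hu x
  have hχinj : Function.Injective χ := by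
    refine (injective_iff_map_eq_zero χ).2 fun t ht => ?_
    obtain ⟨⟨x, ⟨_, n, rfl⟩⟩, rfl⟩ := IsLocalization.mk'_surjective (Submonoid.powers (a' 0)) t
    have h1 : χ (algebraMap A T x) = 0 := by
      rw [← IsLocalization.mk'_spec T x (⟨a' 0 ^ n, n, rfl⟩ : Submonoid.powers (a' 0)), map_mul, ht, zero_mul]
    rw [hχ] at h1
    have h2 : ρ x = 0 := IsLocalization.injective T'
      (M := Submonoid.powers (ρ (a k))) (Submonoid.powers_le.2 hnzd) (h1.trans (map_zero _).symm)
    obtain ⟨s, hs⟩ := hker x h2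
    exact (IsLocalization.mk'_eq_zero_iff x _).2 ⟨⟨a' 0 ^ s, s, rfl⟩, by rw [ha0]; exact hs⟩
  have hval : ∀ i, χ (KoszBlow.val a' T i) = algebraMap D T' (c (k.succAbove i)) := fun i => by
    have h1 := congrArg χ (IsLocalization.mk'_spec T (a' i.succ)
      (⟨a' 0, Submonoid.mem_powers (a' 0)⟩ : Submonoid.powers (a' 0)))
    rw [map_mul, hχ, hχ] at h1
    have h2 : algebraMap D T' (ρ (a' i.succ)) = algebraMap D T' (c (k.succAbove i)) * algebraMap D T' (ρ (a' 0)) := by
      rw [← map_mul, ha0, hc]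
      simp [a', front_succ]
    exact hu.mul_right_cancel (h1.trans h2)
  have h3 : aeval (KoszBlow.val a' T) (p - C (a k) * w) = 0 := by
    refine hχinj ?_
    rw [map_zero, ← (algebraMap D T').map_zero, ← h0]
    show (χ.comp (aeval (KoszBlow.val a' T)).toRingHom) _ = ((algebraMap D T').comp e) _
    congr 1
    refine MvPolynomial.ringHom_ext (fun x => ?_) (fun i => ?_)
    · simp [e, hχ]
    · simp [e, hval]
  have hmem : ∀ l, π (a l) = 0 := fun l => by
    rw [← RingHom.mem_ker, hπk]
    exact Ideal.subset_span ⟨l, rfl⟩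
  have h4 : MvPolynomial.map π (p - C (a k) * w) = 0 := by
    have := KoszBlow.mem_span_of_aeval a' T ha' h3
    refine RingHom.mem_ker.1 (Ideal.span_le.2 ?_ this)
    rintro _ ⟨i, rfl⟩
    simp [KoszBlow.eqn, a', hmem]
  simpa [hmem] using h4

end Groth.Agent.BlowExcBundle
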